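import Groth.Agent.Lib.MLLim8.Basic
import Groth.Prelude.Def_DerCA

/-!
# Essentially constant systems of abelian groups are Mittag-Leffler
-/

set_option autoImplicit false

universe u

open CategoryTheory CategoryTheory.Limits Opposite

namespace Groth.Agent.MLLim8

variable {C : ℕᵒᵖ ⥤ AddCommGrpCat.{u}} {C₀ : AddCommGrpCat.{u}} {c : (Functor.const ℕᵒᵖ).obj C₀ ⟶ C}

theorem res_const (c : (Functor.const ℕᵒᵖ).obj C₀ ⟶ C) {i j : ℕ} (h : i ≤ j) (x : C₀) :
    res C h (c.app (op j) x) = c.app (op i) x :=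
  (NatTrans.naturality_apply c (homOfLE h).op x).symm

theorem exists_eq_c (h : DerCA.IsEssConstant C C₀ c) (j : ℕ) :
    ∃ (i : ℕ) (hi : j ≤ i), ∀ x : C.obj (op i), ∃ γ : C₀, c.app (op j) γ = res C hi x := by
  obtain ⟨i, s, -, H⟩ := h
  obtain ⟨k, hik, hjk, he⟩ := H j
  exact ⟨k, hjk, fun x => ⟨s (res C hik x), (ConcreteCategory.congr_hom he x).symm⟩⟩

theorem exists_injective_c (h : DerCA.IsEssConstant C C₀ c) :
    ∃ i : ℕ, ∀ j, i ≤ j → Function.Injective (c.app (op j)) := by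
  obtain ⟨i, s, hs, -⟩ := h
  refine ⟨i, fun j hj a b hab => ?_⟩
  have hab' : c.app (op i) a = c.app (op i) b := by rw [← res_const c hj a, ← res_const c hj b, hab]
  have ha : s (c.app (op i) a) = a := ConcreteCategory.congr_hom hs a
  have hb : s (c.app (op i) b) = b := ConcreteCategory.congr_hom hs b
  rw [← ha, ← hb, hab']

theorem isMittagLeffler_of_isEssConstant (h : DerCA.IsEssConstant C C₀ c) :
    (C ⋙ forget AddCommGrpCat.{u}).IsMittagLeffler := by
  refine (isML_top C).1 ((isML_iff C _).2 fun j => ?_)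
  obtain ⟨i, hi, H⟩ := exists_eq_c h j
  refine ⟨i, hi, fun k hk x _ => ?_⟩
  obtain ⟨γ, hγ⟩ := H x
  exact ⟨c.app (op k) γ, trivial, (res_const c _ γ).trans hγ⟩

end Groth.Agent.MLLim8
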